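import Cfsg.Agent.FusYoshida.Transfer
import Cfsg.Agent.FusTate.Data
import Cfsg.Agent.Fus.LocalSystems

/-!
Yoshida's theorem for fusion systems.
-/

set_option autoImplicit false

namespace CfsgLib.FusYoshida

open Cfsg Cfsg.FusionSystem CfsgLib.Fus
open scoped commutatorElement

universe u

variable {Ω : Type u} [Group Ω] {S : Subgroup Ω} [Finite S] {p : ℕ} [Fact p.Prime]

/-- Yoshida's theorem: if `N_F(S)` does not control transfer, `S` maps onto `C_p ≀ C_p`. -/
theorem yoshida (hS : IsPGroup p S) {F : Cfsg.FusionSystem S} (hF : F.IsSaturated p)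
    {N : Cfsg.FusionSystem (normalizerIn S S)} (hN : F.IsNormalizerSystem S N)
    (hne : N.focalSubgroup ≠ F.focalSubgroup) :
    ∃ (W : Sylow p (Equiv.Perm (Fin (p ^ 2))))
      (f : ↥S →* ↥(W : Subgroup (Equiv.Perm (Fin (p ^ 2))))), Function.Surjective f := by
  by_contra hW
  apply hne
  have hNS : normalizerIn S S = S := le_antisymm inf_le_left fun g hg => ⟨hg, Subgroup.le_normalizer hg⟩
  -- `N` as a system over `S`
  let E : Cfsg.FusionSystem S :=
    { Hom := N.Hom
      le_of_mem := fun h => ⟨(N.le_of_mem h).1.trans inf_le_left, fun x => ((N.le_of_mem h).2 x).1⟩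
      injective_of_mem := fun h => N.injective_of_mem h
      conj_mem := fun hP hg => N.conj_mem (hP.trans hNS.ge) (hNS.ge hg)
      comp_mem := fun h h' => N.comp_mem h h'
      inv_mem := fun h => N.inv_mem h }
  have hEfoc : N.focalSubgroup = E.focalSubgroup := rfl
  rw [hEfoc]
  have hEF : E.IsSubsystemOf F := fun P φ h => by
    have h' : φ ∈ F.normalizerHom S P := hN P ▸ (show φ ∈ N.Hom P from h)
    exact h'.1
  obtain ⟨d⟩ := FusTate.nonempty_twistData hS hF
  have hΦ : F.focalSubgroup ≤ (frattini S).map S.subtype ⊔ E.focalSubgroup := by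
    set L₀ := (frattini S).map S.subtype ⊔ E.focalSubgroup
    intro y hy
    by_contra hyL
    have hyS : y ∈ S := focalSubgroup_le_S F hy
    set L := L₀.subgroupOf S
    have hS'L : commutator S ≤ L := fun z hz =>
      Subgroup.mem_sup_left (Subgroup.mem_map_of_mem S.subtype (PGroup.commutator_le_frattini hS hz))
    haveI hLn : L.Normal := Subgroup.Normal.of_commutator_le (G := S) hS'L
    have hQbot : frattini (S ⧸ L) = ⊥ := by
      rw [PGroup.frattini_eq_bot_iff (hS.to_quotient L)]
      refine ⟨fun a b => ?_, fun a => ?_⟩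
      · obtain ⟨a, rfl⟩ := QuotientGroup.mk'_surjective L a
        obtain ⟨b, rfl⟩ := QuotientGroup.mk'_surjective L b
        rw [← commutatorElement_eq_one_iff_mul_comm, ← map_commutatorElement]
        exact (QuotientGroup.eq_one_iff _).2
          (hS'L (Subgroup.commutator_mem_commutator (Subgroup.mem_top a) (Subgroup.mem_top b)))
      · obtain ⟨a, rfl⟩ := QuotientGroup.mk'_surjective L a
        rw [← map_pow]
        exact (QuotientGroup.eq_one_iff _).2
          (Subgroup.mem_sup_left (Subgroup.mem_map_of_mem S.subtype (PGroup.pow_prime_mem_frattini hS a)))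
    have hy1 : QuotientGroup.mk' L ⟨y, hyS⟩ ∉ frattini (S ⧸ L) := by
      rw [hQbot, Subgroup.mem_bot]
      exact fun h => hyL ((QuotientGroup.eq_one_iff (N := L) ⟨y, hyS⟩).1 h)
    rw [PGroup.mem_frattini_iff] at hy1
    push Not at hy1
    obtain ⟨K', hK', hyK'⟩ := hy1
    set K := K'.comap (QuotientGroup.mk' L)
    have hKco : IsCoatom K := Subgroup.isCoatom_comap_of_surjective (QuotientGroup.mk'_surjective L) hK'
    haveI : K.Normal := PGroup.normal_of_coatom hS hKco
    have hcard : Nat.card (S ⧸ K) = Nat.card (Multiplicative (ZMod p)) := by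
      rw [← Subgroup.index_eq_card, PGroup.index_of_coatom hS hKco]
      exact (Nat.card_zmod p).symm
    haveI : Fact (Nat.card (Multiplicative (ZMod p))).Prime := ⟨by
      rw [show Nat.card (Multiplicative (ZMod p)) = p from Nat.card_zmod p]; exact Fact.out⟩
    let e : S ⧸ K ≃* Multiplicative (ZMod p) := mulEquivOfPrimeCardEq (p := p)
      (hcard.trans (Nat.card_zmod p)) (Nat.card_zmod p)
    let θ : S →* Multiplicative (ZMod p) := e.toMonoidHom.comp (QuotientGroup.mk' K)
    have hθK : ∀ a b : S, θ a = θ b ↔ a⁻¹ * b ∈ K := fun a b =>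
      e.injective.eq_iff.trans (QuotientGroup.eq)
    have hLK : L ≤ K := fun z hz => by
      show QuotientGroup.mk' L z ∈ K'
      rw [show QuotientGroup.mk' L z = 1 from (QuotientGroup.eq_one_iff z).2 hz]
      exact one_mem _
    have htop : ∀ φ (hφ : φ ∈ F.Hom S), ∀ x : S, θ ⟨φ x, hom_mem F hφ x⟩ = θ x := by
      intro φ hφ x
      have hm : φ ∈ N.Hom S := by
        rw [hN S]
        refine ⟨hφ, hNS.ge, fun x => hNS.ge (hom_mem F hφ x), _, restrict_mem F hφ (sup_idem S).le,
          fun x => rfl, ?_⟩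
        exact Fusion.Alperin.subgroupOf_map_eq
          (F.injective_of_mem (restrict_mem F hφ (sup_idem S).le)) le_sup_left
          fun x _ => hom_mem F hφ _
      rw [eq_comm, hθK]
      refine hLK (Subgroup.mem_sup_right ?_)
      exact mem_focalSubgroup E (show φ ∈ E.Hom S from hm) x
    have hfoc : F.focalSubgroup ≤ K.map S.subtype := by
      rw [Cfsg.FusionSystem.focalSubgroup, Subgroup.closure_le]
      rintro _ ⟨P, φ, x, hφ, rfl⟩
      refine ⟨(⟨x, hom_le F hφ x.2⟩ : S)⁻¹ * ⟨φ x, hom_mem F hφ x⟩, ?_, rfl⟩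
      exact (hθK _ _).1 (stable_of_no_wreath hS d hW θ htop hφ x).symm
    obtain ⟨z, hz, hzy⟩ := hfoc hy
    apply hyK'
    rw [← show z = ⟨y, hyS⟩ from Subtype.ext hzy]
    exact hz
  -- Tate's theorem
  have hEle : E.focalSubgroup ≤ E.hyperfocalSubgroup p ⊔ ⁅S, S⁆ := by
    rw [Cfsg.FusionSystem.focalSubgroup, Subgroup.closure_le]
    rintro _ ⟨P, φ, x, hφ, rfl⟩
    have hφ' : φ ∈ F.normalizerHom S P := hN P ▸ (show φ ∈ N.Hom P from hφ)
    obtain ⟨hφF, hPS, -, ψ, hψ, hext, hψS⟩ := hφ'
    have hPS' : P ⊔ S ≤ S := sup_le (hom_le F hφF) le_rfl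
    set χ := ψ.comp (Subgroup.inclusion (le_sup_right : S ≤ P ⊔ S))
    have hχ : χ ∈ F.Hom S := restrict_mem F hψ le_sup_right
    have hr : χ.range = S := Subgroup.eq_of_le_of_card_ge (range_le F hχ)
      (isConj_card (isConj_of_hom F hχ)).le
    have hα : isoOf hχ hr ∈ F.autGroup S := isoOf_mem_autGroup hχ hr
    have hα' : isoOf hχ hr ∈ E.autGroup S := by
      refine mem_autGroup_of_mem E ?_
      show S.subtype.comp (isoOf hχ hr).toMonoidHom ∈ N.Hom S
      rw [hN S]
      have h0 := (mem_autGroup_iff F le_rfl).1 hα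
      refine ⟨h0, hNS.ge, fun x => hNS.ge (hom_mem F h0 x), _, restrict_mem F h0 (sup_idem S).le,
        fun x => rfl, ?_⟩
      exact Fusion.Alperin.subgroupOf_map_eq
        (F.injective_of_mem (restrict_mem F h0 (sup_idem S).le)) le_sup_left
        fun x _ => hom_mem F h0 _
    let D : Subgroup (E.autGroup S) :=
      { carrier := {a | ∀ z : S, (z : Ω)⁻¹ * (((a : MulAut S) z : S) : Ω) ∈
          E.hyperfocalSubgroup p ⊔ ⁅S, S⁆}
        one_mem' := fun z => by simp
        mul_mem' := fun {a b} ha hb z => by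
          have h := Subgroup.mul_mem _ (hb z) (ha ((b : MulAut S) z))
          show (z : Ω)⁻¹ * ((((a : MulAut S) ((b : MulAut S) z)) : S) : Ω) ∈ _
          convert h using 1
          group
        inv_mem' := fun {a} ha z => by
          have h := Subgroup.inv_mem _ (ha ((a : MulAut S)⁻¹ z))
          show (z : Ω)⁻¹ * (((a : MulAut S)⁻¹ z : S) : Ω) ∈ _
          simpa using h }
    have hD : D = ⊤ := by
      have := finite_mulAut S
      obtain ⟨-, T, hT⟩ := (fullyNormalized_props hS hF (isFullyNormalized_top F)).1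
      have hle : E.autGroup S ≤ F.autGroup S := autGroup_mono hEF S
      have hnd : ¬ p ∣ ((Cfsg.autInducedBy S S).subgroupOf (E.autGroup S)).index := by
        intro h
        apply ((isFullyAutomized_iff hS F).1 (fullyNormalized_props hS hF (isFullyNormalized_top F)).1).2
        exact h.trans (Dvd.intro _ (Subgroup.relIndex_mul_relIndex _ _ _
          (autInducedBy_le_autGroup E le_rfl) hle))
      rw [← top_le_iff, ← LocalCharP.pResidual_sup_sylow
        (((isPGroup_autInducedBy hS S).comap_of_injective _ (Subgroup.subtype_injective _)).toSylow hnd)]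
      refine sup_le (fun a ha z => Subgroup.mem_sup_left
        (Subgroup.subset_closure ⟨S, a, z, le_rfl, ha, rfl⟩)) (fun a ha z => Subgroup.mem_sup_right ?_)
      obtain ⟨g, hg, hgz⟩ := mem_autInducedBy_iff.1 (ha : (a : MulAut S) ∈ Cfsg.autInducedBy S S)
      rw [show (((a : MulAut S) z : S) : Ω) = g * (z : Ω) * g⁻¹ from hgz z]
      have h := Subgroup.commutator_mem_commutator (S.inv_mem z.2) hg
      rw [commutatorElement_def] at h
      convert h using 1
      group
    have h := (hD ▸ Subgroup.mem_top _ : (⟨_, hα'⟩ : E.autGroup S) ∈ D) ⟨x, hom_le F hφF x.2⟩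
    rw [show (((isoOf hχ hr : MulAut S) ⟨x, hom_le F hφF x.2⟩ : S) : Ω) = φ x from
      ((isoOf_apply hχ hr _).trans (hext x : ψ _ = φ x))] at h
    exact h
  have hhyp : F.hyperfocalSubgroup p ≤ E.hyperfocalSubgroup p :=
    FusTate.hyperfocal_le_of_le_frattini_sup hS hF d hEF
      ((hyperfocalSubgroup_le_focal F).trans (hΦ.trans (sup_le le_sup_left (hEle.trans
        (sup_le le_sup_right (le_trans (by
          rw [Subgroup.commutator_le]
          intro a ha b hb
          exact ⟨⁅(⟨a, ha⟩ : S), (⟨b, hb⟩ : S)⁆, PGroup.commutatorElement_mem_frattini hS _ _, rfl⟩)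
          le_sup_left))))))
  refine le_antisymm ?_ ?_
  · rw [Cfsg.FusionSystem.focalSubgroup, Subgroup.closure_le]
    rintro _ ⟨P, φ, x, hφ, rfl⟩
    exact mem_focalSubgroup F (hEF P hφ) x
  · rw [focal_eq_hyperfocal_sup hS hF]
    exact sup_le (hhyp.trans (hyperfocalSubgroup_le_focal E)) (commutator_le_focal E)

end CfsgLib.FusYoshida
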