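import Mathlib.GroupTheory.Sylow
import Mathlib.GroupTheory.Coset.Basic
import Mathlib.GroupTheory.SpecificGroups.Cyclic
import Mathlib.Algebra.MonoidAlgebra.Basic
import Mathlib.Algebra.CharP.Lemmas
import Mathlib.NumberTheory.Padics.PadicVal.Basic
import Mathlib.Data.ZMod.Basic
import Mathlib.FieldTheory.Finite.Basic
import Mathlib.GroupTheory.Perm.Basic
import Mathlib.Tactic.Group

/-!
Yoshida's wreath criterion: if a homomorphism from a maximal subgroup `M` of a `p`-group `S` to a
group of order `p` has nontrivial transfer on `M`, then `S` maps onto `C_p ≀ C_p`.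
-/

set_option autoImplicit false

namespace CfsgLib.FusYoshida

variable {p : ℕ} [hp : Fact p.Prime]

/-- A translation-invariant group of functions on a cyclic group of order `p` containing one with
nonzero sum contains all functions. -/
theorem translation_span {Q : Type*} [CommGroup Q] [Fintype Q] (hQ : ∀ q : Q, q ^ p = 1)
    (V : AddSubgroup (Q → ZMod p)) (hV : ∀ v ∈ V, ∀ a : Q, (fun q => v (a * q)) ∈ V)
    {v : Q → ZMod p} (hv : v ∈ V) (hsum : ∑ q, v q ≠ 0) : V = ⊤ := by
  classical
  have hinj : Function.Injective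
      (MonoidAlgebra.singleOneRingHom : ZMod p →+* MonoidAlgebra (ZMod p) Q) := fun a b hab => by
    have := DFunLike.congr_fun (congrArg MonoidAlgebra.coeff hab) 1
    simpa using this
  haveI : CharP (MonoidAlgebra (ZMod p) Q) p := charP_of_injective_ringHom hinj p
  have hsmul : ∀ (c : ZMod p), ∀ w ∈ V, c • w ∈ V := fun c w hw => by
    have e : c • w = c.val • w := by
      funext q
      rw [Pi.smul_apply, Pi.smul_apply, smul_eq_mul, nsmul_eq_mul, ZMod.natCast_zmod_val]
    rw [e]
    exact nsmul_mem hw _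
  let T : Set (MonoidAlgebra (ZMod p) Q) := {x | (fun q => x.coeff q) ∈ V}
  have hadd : ∀ x ∈ T, ∀ y ∈ T, x + y ∈ T := fun x hx y hy => by
    show (fun q => (x + y).coeff q) ∈ V
    have e : (fun q => (x + y).coeff q) = (fun q => x.coeff q) + fun q => y.coeff q := by
      funext q; simp
    rw [e]
    exact add_mem hx hy
  have hmul : ∀ x ∈ T, ∀ y, y * x ∈ T := by
    intro x hx y
    induction y using MonoidAlgebra.induction_linear with
    | zero =>
      show (fun q => (0 * x).coeff q) ∈ V
      have e : (fun q => (0 * x).coeff q) = 0 := by funext q; simp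
      rw [e]
      exact zero_mem V
    | add a b ha hb => rw [add_mul]; exact hadd _ ha _ hb
    | single m r =>
      show (fun q => (MonoidAlgebra.single m r * x).coeff q) ∈ V
      have e : (fun q => (MonoidAlgebra.single m r * x).coeff q) =
          r • fun q => x.coeff (m⁻¹ * q) := by
        funext q; simp
      rw [e]
      exact hsmul r _ (hV _ hx m⁻¹)
  let a : MonoidAlgebra (ZMod p) Q := ∑ q, MonoidAlgebra.single q (v q)
  have hacoeff : (fun q => a.coeff q) = v := by
    funext q
    simp [a, Finsupp.single_apply]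
  have ha : a ∈ T := by
    show (fun q => a.coeff q) ∈ V
    rwa [hacoeff]
  have hapow : a ^ p = MonoidAlgebra.single 1 (∑ q, v q) := by
    rw [show a = ∑ q, MonoidAlgebra.single q (v q) from rfl, sum_pow_char,
      Finset.sum_congr rfl (fun q _ => by rw [MonoidAlgebra.single_pow, hQ, ZMod.pow_card])]
    exact (map_sum (MonoidAlgebra.singleOneRingHom : ZMod p →+* MonoidAlgebra (ZMod p) Q) v _).symm
  rw [eq_top_iff]
  intro w _
  let b : MonoidAlgebra (ZMod p) Q := ∑ q, MonoidAlgebra.single q (w q)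
  have hb : b * MonoidAlgebra.single 1 (∑ q, v q)⁻¹ * a ^ (p - 1) * a ∈ T := hmul a ha _
  have e : b * MonoidAlgebra.single 1 (∑ q, v q)⁻¹ * a ^ (p - 1) * a = b := by
    rw [mul_assoc, ← pow_succ, Nat.sub_add_cancel hp.out.one_le, hapow, mul_assoc,
      MonoidAlgebra.single_mul_single, inv_mul_cancel₀ hsum, mul_one, ← MonoidAlgebra.one_def, mul_one]
  rw [e] at hb
  have hbcoeff : (fun q => b.coeff q) = w := by
    funext q
    simp [b, Finsupp.single_apply]
  exact hbcoeff ▸ hb

theorem factorization_sq_factorial : (Nat.factorial (p ^ 2)).factorization p = p + 1 := by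
  rw [Nat.factorization_def _ hp.out, sq, padicValNat_factorial_mul,
    show Nat.factorial p = Nat.factorial (p * 1) by rw [mul_one], padicValNat_factorial_mul,
    Nat.factorial_one, padicValNat_one_right]
  omega

/-- The wreath product criterion. -/
theorem exists_wreath_quotient {S : Type*} [Group S] [Finite S] (hS : IsPGroup p S) (M : Subgroup S)
    [hMn : M.Normal] (hM : M.index = p) [Fintype (S ⧸ M)] (ν : M →* Multiplicative (ZMod p)) {x : S}
    (hxM : x ∈ M)
    (hx : ∏ q : S ⧸ M, ν ⟨q.out⁻¹ * x * q.out, by simpa using hMn.conj_mem x hxM q.out⁻¹⟩ ≠ 1) :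
    ∃ (W : Sylow p (Equiv.Perm (Fin (p ^ 2)))) (f : S →* (W : Subgroup (Equiv.Perm (Fin (p ^ 2))))),
      Function.Surjective f := by
  classical
  have hQcard : Nat.card (S ⧸ M) = p := by rw [← Subgroup.index_eq_card, hM]
  haveI : IsCyclic (S ⧸ M) := isCyclic_of_prime_card hQcard
  letI : CommGroup (S ⧸ M) := IsCyclic.commGroup
  have hQp : ∀ q : S ⧸ M, q ^ p = 1 := fun q => by
    have := pow_card_eq_one' (x := q)
    rwa [hQcard] at this
  have hmem : ∀ (s : S) (q : S ⧸ M), (s • q : S ⧸ M).out⁻¹ * (s * q.out) ∈ M := fun s q => by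
    rw [← QuotientGroup.eq, QuotientGroup.out_eq']
    show s • q = s • (QuotientGroup.mk q.out : S ⧸ M)
    rw [QuotientGroup.out_eq']
  let m : S → S ⧸ M → M := fun s q => ⟨_, hmem s q⟩
  let n : S → S ⧸ M → ZMod p := fun s q => Multiplicative.toAdd (ν (m s q))
  have hn : ∀ s t q, n (s * t) q = n s (t • q) + n t q := fun s t q => by
    show Multiplicative.toAdd (ν (m (s * t) q)) = Multiplicative.toAdd (ν (m s (t • q)) * ν (m t q))
    rw [← map_mul]
    refine congrArg _ (congrArg ν (Subtype.ext ?_))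
    show ((s * t) • q : S ⧸ M).out⁻¹ * (s * t * q.out) =
      (s • t • q : S ⧸ M).out⁻¹ * (s * (t • q : S ⧸ M).out) * ((t • q : S ⧸ M).out⁻¹ * (t * q.out))
    rw [mul_smul]
    group
  let act : MulAction S ((S ⧸ M) × ZMod p) :=
    { smul := fun s z => (s • z.1, z.2 + n s z.1)
      one_smul := fun z => Prod.ext (one_smul S z.1) (by
        have h1 := hn 1 1 z.1
        rw [one_mul, one_smul] at h1
        show z.2 + n 1 z.1 = z.2
        rw [show n 1 z.1 = 0 from left_eq_add.1 h1, add_zero])
      mul_smul := fun s t z => Prod.ext (mul_smul s t z.1) (by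
        show z.2 + n (s * t) z.1 = z.2 + n t z.1 + n s (t • z.1)
        rw [hn]; abel) }
  let f0 : S →* Equiv.Perm ((S ⧸ M) × ZMod p) := @MulAction.toPermHom S _ _ act
  -- translations
  have hshift : ∀ (a y : S), y ∈ M → ∀ q : S ⧸ M, n (a * y * a⁻¹) (a • q) = n y q := by
    intro a y hy q
    have hyq : ∀ q : S ⧸ M, y • q = q := fun q => by
      induction q using QuotientGroup.induction_on with
      | _ b =>
        show (QuotientGroup.mk (y * b) : S ⧸ M) = QuotientGroup.mk b
        rw [QuotientGroup.eq]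
        simpa [mul_assoc] using hMn.conj_mem _ (inv_mem hy) b⁻¹
    rw [hn, hn, inv_smul_smul, hyq]
    have h1 := hn a a⁻¹ (a • q)
    rw [mul_inv_cancel, inv_smul_smul] at h1
    have h2 := hn 1 1 (a • q)
    rw [one_mul, one_smul] at h2
    rw [left_eq_add.1 h2] at h1
    linear_combination -h1
  have hfix : ∀ y ∈ M, ∀ q : S ⧸ M, y • q = q := fun y hy q => by
    induction q using QuotientGroup.induction_on with
    | _ b =>
      show (QuotientGroup.mk (y * b) : S ⧸ M) = QuotientGroup.mk b
      rw [QuotientGroup.eq]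
      simpa [mul_assoc] using hMn.conj_mem _ (inv_mem hy) b⁻¹
  let Φ : M →* Multiplicative (S ⧸ M → ZMod p) :=
    { toFun := fun y => Multiplicative.ofAdd (fun q => n (y : S) q)
      map_one' := by
        show Multiplicative.ofAdd (fun q => n (1 : S) q) = Multiplicative.ofAdd 0
        refine congrArg _ (funext fun q => ?_)
        have h1 := hn 1 1 q
        rw [one_mul, one_smul] at h1
        exact left_eq_add.1 h1
      map_mul' := fun y z => by
        refine congrArg Multiplicative.ofAdd (funext fun q => ?_)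
        show n ((y : S) * z) q = n y q + n z q
        rw [hn, hfix z z.2] }
  let V : AddSubgroup (S ⧸ M → ZMod p) :=
    { carrier := {v | ∃ y : M, Multiplicative.toAdd (Φ y) = v}
      zero_mem' := ⟨1, by rw [map_one]; rfl⟩
      add_mem' := fun {a b} ⟨y, hy⟩ ⟨z, hz⟩ => ⟨y * z, by rw [map_mul, toAdd_mul, hy, hz]⟩
      neg_mem' := fun {a} ⟨y, hy⟩ => ⟨y⁻¹, by rw [map_inv, toAdd_inv, hy]⟩ }
  have hVtop : V = ⊤ := by
    refine translation_span hQp V ?_ (v := fun q => n x q) ⟨⟨x, hxM⟩, rfl⟩ ?_
    · rintro v ⟨y, rfl⟩ a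
      obtain ⟨a, rfl⟩ := QuotientGroup.mk_surjective a
      refine ⟨⟨a⁻¹ * y * a⁻¹⁻¹, hMn.conj_mem _ y.2 _⟩, funext fun q => ?_⟩
      show n (a⁻¹ * (y : S) * a⁻¹⁻¹) q = n y (QuotientGroup.mk a * q)
      have h := hshift a⁻¹ y y.2 (a • q)
      rw [inv_smul_smul] at h
      rw [h]
      congr 1
    · intro h
      apply hx
      apply Multiplicative.toAdd.injective
      rw [toAdd_prod, toAdd_one, ← h]
      refine Finset.sum_congr rfl fun q _ => congrArg _ (congrArg ν (Subtype.ext ?_))
      show q.out⁻¹ * x * q.out = (x • q : S ⧸ M).out⁻¹ * (x * q.out)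
      rw [hfix x hxM, mul_assoc]
  -- the range is large
  have hker : f0.ker ≤ M := by
    intro s hs
    have h := congrArg Prod.fst (Equiv.ext_iff.1 (MonoidHom.mem_ker.1 hs) ((QuotientGroup.mk 1 : S ⧸ M), 0))
    change (QuotientGroup.mk (s * 1) : S ⧸ M) = QuotientGroup.mk 1 at h
    rw [mul_one, QuotientGroup.eq, mul_one] at h
    simpa using h
  have hbig : p ^ (p + 1) ≤ Nat.card f0.range := by
    rw [← Subgroup.index_ker, ← Subgroup.relIndex_mul_index hker, hM, pow_succ,
      Subgroup.relIndex_ker]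
    refine Nat.mul_le_mul_right p ?_
    have hfun : Nat.card (S ⧸ M → ZMod p) = p ^ p := by
      rw [Nat.card_fun, Nat.card_zmod, hQcard]
    rw [← hfun]
    let g : ↥(f0 '' (M : Set S)) → (S ⧸ M → ZMod p) := fun z q => ((z : Equiv.Perm _) (q, 0)).2
    refine Nat.card_le_card_of_surjective g fun v => ?_
    obtain ⟨y, hy⟩ : v ∈ V := hVtop ▸ AddSubgroup.mem_top v
    refine ⟨⟨f0 y, y, y.2, rfl⟩, funext fun q => ?_⟩
    show (0 : ZMod p) + n y q = v q
    rw [zero_add, ← hy]
    rfl
  let e : (S ⧸ M) × ZMod p ≃ Fin (p ^ 2) := Finite.equivFinOfCardEq (by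
    rw [Nat.card_prod, hQcard, Nat.card_zmod, sq])
  let f1 : S →* Equiv.Perm (Fin (p ^ 2)) := e.permCongrHom.toMonoidHom.comp f0
  have hf1 : Nat.card f1.range = Nat.card f0.range := by
    rw [show f1.range = f0.range.map e.permCongrHom.toMonoidHom from (MonoidHom.map_range _ _).symm,
      Subgroup.card_map_of_injective e.permCongrHom.injective]
  have hp1 : IsPGroup p f1.range := hS.of_surjective f1.rangeRestrict f1.rangeRestrict_surjective
  obtain ⟨W, hW⟩ := hp1.exists_le_sylow
  have hWeq : f1.range = (W : Subgroup (Equiv.Perm (Fin (p ^ 2)))) := by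
    refine Subgroup.eq_of_le_of_card_ge hW ?_
    rw [W.card_eq_multiplicity, Nat.card_eq_fintype_card, Fintype.card_perm, Fintype.card_fin, factorization_sq_factorial, hf1]
    exact hbig
  refine ⟨W, f1.codRestrict _ fun s => hWeq.le ⟨s, rfl⟩, fun w => ?_⟩
  obtain ⟨s, hs⟩ := hWeq.ge w.2
  exact ⟨s, Subtype.ext hs⟩

end CfsgLib.FusYoshida
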