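import Cfsg.Agent.Eq.Def_FusionSystem
import Cfsg.Agent.FusTate.Tate
import Cfsg.Agent.FusYoshida.Wreath
import Cfsg.Agent.PGroup.Frattini

/-!
Yoshida's argument: without a quotient `C_p ≀ C_p`, an `Aut_F(S)`-invariant character of order `p`
is `F`-stable.
-/

set_option autoImplicit false

namespace CfsgLib.FusYoshida

open Cfsg Cfsg.FusionSystem CfsgLib.Fus

universe v

section Action

variable {S : Type*} [Group S] {A : Type*} [CommGroup A] {I : Type*}
  (σ : S →* Equiv.Perm I) (l : S → I → S)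

/-- The product of the labels over an invariant set without fixed points, when all smaller powers
behave like `θ`. -/
theorem prod_eq_pow [Fintype I] (hl : ∀ u v i, l (u * v) i = l u (σ v i) * l v i) (θ : S →* A) (y : S)
    (J : Finset I) (hJ : ∀ i, σ y i ∈ J ↔ i ∈ J)
    (h : ∀ w ∈ Subgroup.zpowers y, ∀ i ∈ J, σ w i = i → θ (l w i) = θ w) :
    ∏ i ∈ J, θ (l y i) = θ y ^ J.card := by
  classical
  let st : Setoid I :=
    { r := fun i j => ∃ u ∈ Subgroup.zpowers y, σ u i = j
      iseqv :=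
        { refl := fun i => ⟨1, one_mem _, by rw [map_one]; rfl⟩
          symm := fun {i j} ⟨u, hu, h⟩ => ⟨u⁻¹, inv_mem hu, by
            rw [← h, map_inv]; exact (σ u).symm_apply_apply i⟩
          trans := fun {i j k} ⟨u, hu, h⟩ ⟨w, hw, h'⟩ => ⟨w * u, mul_mem hw hu, by
            rw [map_mul, Equiv.Perm.mul_apply, h, h']⟩ } }
  let rep : I → I := fun i => (Quotient.mk st i).out
  have hrep : ∀ i, rep (σ y i) = rep i := fun i =>
    congrArg Quotient.out (Quotient.sound (s := st) ⟨y⁻¹, inv_mem (Subgroup.mem_zpowers y), by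
      rw [map_inv]; exact (σ y).symm_apply_apply i⟩)
  have hto : ∀ i, ∃ a ∈ Subgroup.zpowers y, σ a (rep i) = i := fun i => Quotient.mk_out (s := st) i
  choose a haz ha using hto
  -- invariance of `J` under the powers
  have hJpow : ∀ w ∈ Subgroup.zpowers y, ∀ i, σ w i ∈ J ↔ i ∈ J := by
    intro w hw
    let K : Subgroup S :=
      { carrier := {w | ∀ i, σ w i ∈ J ↔ i ∈ J}
        one_mem' := fun i => by rw [map_one]; rfl
        mul_mem' := fun {u v} hu hv i => by rw [map_mul, Equiv.Perm.mul_apply, hu, hv]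
        inv_mem' := fun {u} hu i => by
          rw [map_inv]
          conv_rhs => rw [← (σ u).apply_symm_apply i, hu]
          rfl }
    exact (Subgroup.zpowers_le.2 (show y ∈ K from hJ)) hw
  let f : I → A := fun i => θ (l (a i) (rep i)) * (θ (a i))⁻¹
  have hf : ∀ i ∈ J, f (σ y i) = θ (l y i) * (θ y)⁻¹ * f i := by
    intro i hi
    set k := σ y i
    set r := rep i with hr
    have hk : σ (a k) r = k := by
      have h := ha k
      rwa [show rep k = r from hrep i] at h
    set w := (a k)⁻¹ * y * a i with hw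
    have hwz : w ∈ Subgroup.zpowers y :=
      mul_mem (mul_mem (inv_mem (haz k)) (Subgroup.mem_zpowers y)) (haz i)
    have hwr : σ w r = r := by
      rw [hw, map_mul, map_mul, Equiv.Perm.mul_apply, Equiv.Perm.mul_apply, hr, ha i, map_inv]
      show (σ (a k)).symm k = rep i
      rw [Equiv.symm_apply_eq, ← hr, hk]
    have hrJ : r ∈ J := (hJpow (a i) (haz i) r).1 (by rw [hr, ha i]; exact hi)
    have e1 : θ (l y i) * θ (l (a i) r) = θ (l (a k) r) * θ w := by
      rw [← h w hwz r hrJ hwr, ← map_mul, ← map_mul]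
      refine congrArg θ ?_
      calc l y i * l (a i) r = l (y * a i) r := by rw [hl, hr, ha i]
        _ = l (a k * w) r := by rw [hw]; group
        _ = _ := by rw [hl, hwr]
    have e2 : θ (a k) * θ w = θ y * θ (a i) := by
      rw [← map_mul, ← map_mul, hw]; group
    show θ (l (a k) (rep k)) * (θ (a k))⁻¹ = θ (l y i) * (θ y)⁻¹ * (θ (l (a i) r) * (θ (a i))⁻¹)
    rw [show rep k = r from hrep i, mul_mul_mul_comm, e1, ← mul_inv, ← e2, mul_inv, mul_mul_mul_comm,
      mul_inv_cancel, mul_one]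
  let f' : I → A := fun i => if i ∈ J then f i else 1
  let g : I → A := fun i => if i ∈ J then θ (l y i) * (θ y)⁻¹ else 1
  have hg : ∀ i, f' (σ y i) = g i * f' i := by
    intro i
    by_cases hi : i ∈ J
    · simp only [f', g, if_pos hi, if_pos ((hJ i).2 hi), hf i hi]
    · simp only [f', g, if_neg hi, if_neg (mt (hJ i).1 hi), one_mul]
  have hprod := Equiv.prod_comp (σ y) f'
  rw [Finset.prod_congr rfl (fun i _ => hg i), Finset.prod_mul_distrib, mul_eq_right] at hprod
  simp only [g, Finset.prod_ite_mem, Finset.univ_inter, Finset.prod_mul_distrib, Finset.prod_const,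
    inv_pow] at hprod
  exact mul_inv_eq_one.1 hprod

end Action

variable {Ω : Type*} [Group Ω] {S : Subgroup Ω} [Finite S] {p : ℕ} [Fact p.Prime]

/-- Without a wreath quotient an `Aut_F(S)`-invariant character is stable. -/
theorem stable_of_no_wreath (hS : IsPGroup p S) {F : Cfsg.FusionSystem S}
    (d : FusTate.TwistData.{v} F p)
    (hW : ¬ ∃ (W : Sylow p (Equiv.Perm (Fin (p ^ 2))))
      (f : ↥S →* ↥(W : Subgroup (Equiv.Perm (Fin (p ^ 2))))), Function.Surjective f)
    (θ : S →* Multiplicative (ZMod p))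
    (htop : ∀ φ (hφ : φ ∈ F.Hom S), ∀ x : S, θ ⟨φ x, hom_mem F hφ x⟩ = θ x)
    {P : Subgroup Ω} {φ : P →* Ω} (hφ : φ ∈ F.Hom P) (x : P) :
    θ ⟨φ x, hom_mem F hφ x⟩ = θ ⟨x, hom_le F hφ x.2⟩ := by
  classical
  have hp : p.Prime := Fact.out
  have hexp : ∀ a : Multiplicative (ZMod p), a ^ p = 1 := fun a => by
    have := pow_card_eq_one' (x := a)
    rwa [show Nat.card (Multiplicative (ZMod p)) = p from Nat.card_zmod p] at this
  induction hn : orderOf (x : Ω) using Nat.strong_induction_on generalizing P with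
  | _ n ih =>
  subst hn
  letI := d.fintype
  let tr : S →* Multiplicative (ZMod p) := MonoidHom.mk' (fun u => ∏ i, θ (d.l u i)) (fun u v => by
    simp only [d.l_mul, map_mul, Finset.prod_mul_distrib, Equiv.prod_comp (d.σ v) (fun i => θ (d.l u i))])
  have hstable : tr ⟨φ x, hom_mem F hφ x⟩ = tr ⟨x, hom_le F hφ x.2⟩ := by
    obtain ⟨e, γ, he⟩ := d.stable P φ hφ
    show ∏ i, θ (d.l _ i) = ∏ i, θ (d.l _ i)
    rw [← Equiv.prod_comp e]
    apply mul_right_cancel (b := ∏ i, θ (γ i))
    rw [← Finset.prod_mul_distrib]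
    conv_rhs => rw [mul_comm, ← Equiv.prod_comp (d.σ ⟨x, hom_le F hφ x.2⟩) (fun i => θ (γ i)),
      ← Finset.prod_mul_distrib]
    refine Finset.prod_congr rfl fun i _ => ?_
    rw [← map_mul, ← map_mul, (he x i).2]
  suffices key : ∀ u : S, orderOf (u : Ω) = orderOf (x : Ω) → tr u = θ u ^ Nat.card d.I by
    rw [key _ (show orderOf (φ x) = orderOf (x : Ω) from by
        rw [orderOf_injective φ (F.injective_of_mem hφ) x, Subgroup.orderOf_coe]),
      key _ rfl] at hstable
    set a := θ ⟨φ x, hom_mem F hφ x⟩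
    set b := θ ⟨x, hom_le F hφ x.2⟩
    have h1 : (a / b) ^ Nat.card d.I = 1 := by rw [div_pow, hstable, div_self']
    exact div_eq_one.1 (orderOf_eq_one_iff.1 (Nat.eq_one_of_dvd_coprimes
      (hp.coprime_iff_not_dvd.2 d.not_dvd) (orderOf_dvd_of_pow_eq_one (hexp _))
      (orderOf_dvd_of_pow_eq_one h1)))
  intro u hu
  -- smaller powers of `u` behave like `θ`
  have hsmall : ∀ w ∈ Subgroup.zpowers u, ∀ i, d.σ w i = i → d.σ u i ≠ i → θ (d.l w i) = θ w := by
    intro w hw i hwi hui
    obtain ⟨P', φ', hφ', hP'⟩ := d.twisted i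
    obtain ⟨hwP, hwl⟩ := hP' w hwi
    have hlt : orderOf ((⟨(w : Ω), hwP⟩ : P') : Ω) < orderOf (x : Ω) := by
      show orderOf (w : Ω) < _
      rw [← hu, Subgroup.orderOf_coe, Subgroup.orderOf_coe, ← Nat.card_zpowers, ← Nat.card_zpowers]
      have hle : Subgroup.zpowers w ≤ Subgroup.zpowers u := Subgroup.zpowers_le.2 hw
      refine lt_of_le_of_ne (Subgroup.card_le_of_le hle) fun he => hui ?_
      have hueq := Subgroup.eq_of_le_of_card_ge hle he.ge
      have hstab : Subgroup.zpowers w ≤ (MulAction.stabilizer (Equiv.Perm d.I) i).comap d.σ :=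
        Subgroup.zpowers_le.2 hwi
      exact hstab (hueq ▸ Subgroup.mem_zpowers u)
    have h := ih _ hlt hφ' ⟨(w : Ω), hwP⟩ rfl
    rwa [show (⟨φ' ⟨(w : Ω), hwP⟩, hom_mem F hφ' _⟩ : S) = d.l w i from Subtype.ext hwl] at h
  let st : Setoid d.I :=
    { r := fun i j => ∃ a, d.σ a i = j
      iseqv :=
        { refl := fun i => ⟨1, by rw [map_one]; rfl⟩
          symm := fun {i j} ⟨a, ha⟩ => ⟨a⁻¹, by rw [← ha, map_inv]; exact (d.σ a).symm_apply_apply i⟩
          trans := fun {i j k} ⟨a, ha⟩ ⟨b, hb⟩ => ⟨b * a, by rw [map_mul, Equiv.Perm.mul_apply, ha, hb]⟩ } }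
  haveI : Fintype (Quotient st) := Fintype.ofFinite _
  show ∏ i, θ (d.l u i) = _
  rw [← Finset.prod_fiberwise Finset.univ (fun i => Quotient.mk st i), Nat.card_eq_fintype_card,
    ← Finset.card_univ, Finset.card_eq_sum_card_fiberwise (f := fun i => Quotient.mk st i)
      (t := (Finset.univ : Finset (Quotient st))) (fun i _ => Finset.mem_univ _),
    ← Finset.prod_pow_eq_pow_sum]
  refine Finset.prod_congr rfl fun q _ => ?_
  set O := Finset.univ.filter (fun i => Quotient.mk st i = q) with hO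
  have hOinv : ∀ a i, d.σ a i ∈ O ↔ i ∈ O := fun a i => by
    simp only [hO, Finset.mem_filter, Finset.mem_univ, true_and]
    rw [show Quotient.mk st (d.σ a i) = Quotient.mk st i from (Quotient.sound (s := st) ⟨a, rfl⟩).symm]
  by_cases hfix : ∃ j ∈ O, d.σ u j = j
  swap
  · push Not at hfix
    exact prod_eq_pow d.σ d.l d.l_mul θ u O (hOinv u) fun w hw i hi hwi =>
      hsmall w hw i hwi (hfix i hi)
  obtain ⟨j, hjO, huj⟩ := hfix
  have hjq : Quotient.mk st j = q := by simpa [hO] using hjO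
  set H := (MulAction.stabilizer (Equiv.Perm d.I) j).comap d.σ with hH
  have hHmem : ∀ a, a ∈ H ↔ d.σ a j = j := fun a => Iff.rfl
  rcases eq_or_ne H ⊤ with hHt | hHne
  · -- a fixed point of `S`
    have hall : ∀ a, d.σ a j = j := fun a => (hHmem a).1 (hHt ▸ Subgroup.mem_top a)
    have hOj : O = {j} := by
      ext i
      simp only [hO, Finset.mem_filter, Finset.mem_univ, true_and, Finset.mem_singleton]
      constructor
      · intro hi
        obtain ⟨a, ha⟩ := Quotient.exact (hjq.trans hi.symm)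
        rw [← ha, hall]
      · rintro rfl; exact hjq
    obtain ⟨P', φ', hφ', hP'⟩ := d.twisted j
    have hP'S : P' = S := le_antisymm (hom_le F hφ') fun a ha => (hP' ⟨a, ha⟩ (hall _)).1
    subst hP'S
    rw [hOj, Finset.prod_singleton, Finset.card_singleton, pow_one]
    obtain ⟨huP, hul⟩ := hP' u huj
    have h := htop φ' hφ' u
    rwa [show (⟨φ' u, hom_mem F hφ' u⟩ : P') = d.l u j from Subtype.ext hul] at h
  obtain ⟨M, hMco, hHM⟩ := (IsCoatomic.eq_top_or_exists_le_coatom H).resolve_left hHne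
  haveI hMn : M.Normal := PGroup.normal_of_coatom hS hMco
  have hMp : M.index = p := PGroup.index_of_coatom hS hMco
  -- the orbit has order divisible by `p`
  have hto : ∀ i ∈ O, ∃ a, d.σ a j = i := fun i hi =>
    Quotient.exact (hjq.trans (by simpa [hO] using hi : Quotient.mk st i = q).symm)
  haveI : Fintype (S ⧸ M) := Fintype.ofFinite _
  let lab : d.I → S ⧸ M := fun i => if h : i ∈ O then QuotientGroup.mk (hto i h).choose else QuotientGroup.mk 1
  have hlab : ∀ a, lab (d.σ a j) = QuotientGroup.mk a := fun a => by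
    have hm : d.σ a j ∈ O := (hOinv a j).2 hjO
    simp only [lab, dif_pos hm]
    rw [QuotientGroup.eq]
    refine hHM ((hHmem _).2 ?_)
    rw [map_mul, Equiv.Perm.mul_apply, map_inv]
    show (d.σ (hto _ hm).choose).symm (d.σ a j) = j
    rw [Equiv.symm_apply_eq]
    exact (hto _ hm).choose_spec.symm
  have hlabmul : ∀ (a : S), ∀ i ∈ O, lab (d.σ a i) = QuotientGroup.mk a * lab i := fun a i hi => by
    obtain ⟨b, rfl⟩ := hto i hi
    rw [← Equiv.Perm.mul_apply, ← map_mul, hlab, hlab]
    rfl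
  set B := O.filter (fun i => lab i = 1) with hB
  have hBinv : ∀ w ∈ M, ∀ i, d.σ w i ∈ B ↔ i ∈ B := by
    intro w hw i
    simp only [hB, Finset.mem_filter, hOinv]
    exact ⟨fun ⟨h, h'⟩ => ⟨h, by rwa [hlabmul w i h, (QuotientGroup.eq_one_iff w).2 hw, one_mul] at h'⟩,
      fun ⟨h, h'⟩ => ⟨h, by rw [hlabmul w i h, (QuotientGroup.eq_one_iff w).2 hw, one_mul, h']⟩⟩
  let ν : M →* Multiplicative (ZMod p) := MonoidHom.mk' (fun w => ∏ i ∈ B, θ (d.l w i)) (fun w w' => by
    show ∏ i ∈ B, θ (d.l ((w : S) * w') i) = _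
    simp only [d.l_mul, map_mul, Finset.prod_mul_distrib]
    congr 1
    exact Finset.prod_bij' (fun i _ => d.σ (w' : S) i) (fun i _ => (d.σ (w' : S)).symm i)
      (fun i hi => (hBinv _ w'.2 i).2 hi)
      (fun i hi => (hBinv _ w'.2 _).1 (by simpa using hi))
      (fun i _ => by simp) (fun i _ => by simp) fun i _ => rfl)
  have huM : u ∈ M := hHM ((hHmem u).2 huj)
  have hfib : ∀ c : S ⧸ M, ∏ i ∈ O.filter (fun i => lab i = c), θ (d.l u i) =
      ν ⟨c.out⁻¹ * u * c.out, by simpa using hMn.conj_mem u huM c.out⁻¹⟩ := by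
    intro c
    set a := c.out with ha
    set w := a⁻¹ * u * a with hw
    have hwM : w ∈ M := by simpa [hw] using hMn.conj_mem u huM a⁻¹
    show _ = ∏ i ∈ B, θ (d.l w i)
    have hbij : ∏ i ∈ O.filter (fun i => lab i = c), θ (d.l u i) = ∏ i ∈ B, θ (d.l u (d.σ a i)) := by
      symm
      refine Finset.prod_bij' (fun i _ => d.σ a i) (fun i _ => (d.σ a).symm i) ?_ ?_
        (fun i _ => by simp) (fun i _ => by simp) fun i _ => rfl
      · intro i hi
        simp only [hB, Finset.mem_filter] at hi ⊢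
        refine ⟨(hOinv a i).2 hi.1, ?_⟩
        rw [hlabmul a i hi.1, hi.2, mul_one, ha, QuotientGroup.out_eq']
      · intro i hi
        simp only [hB, Finset.mem_filter] at hi ⊢
        have hm : (d.σ a).symm i ∈ O := (hOinv a _).1 (by simpa using hi.1)
        refine ⟨hm, ?_⟩
        have h := hlabmul a _ hm
        rw [Equiv.apply_symm_apply, hi.2] at h
        rw [ha, QuotientGroup.out_eq'] at h
        exact left_eq_mul.1 h |>.symm ▸ rfl
    rw [hbij]
    have hshift : ∏ i ∈ B, θ (d.l a (d.σ w i)) = ∏ i ∈ B, θ (d.l a i) :=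
      Finset.prod_bij' (fun i _ => d.σ w i) (fun i _ => (d.σ w).symm i)
        (fun i hi => (hBinv _ hwM i).2 hi) (fun i hi => (hBinv _ hwM _).1 (by simpa using hi))
        (fun i _ => by simp) (fun i _ => by simp) fun i _ => rfl
    apply mul_right_cancel (b := ∏ i ∈ B, θ (d.l a i))
    conv_rhs => rw [mul_comm, ← hshift]
    rw [← Finset.prod_mul_distrib, ← Finset.prod_mul_distrib]
    refine Finset.prod_congr rfl fun i _ => ?_
    rw [← map_mul, ← map_mul, ← d.l_mul, ← d.l_mul, hw]
    group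
  have hone : ∏ i ∈ O, θ (d.l u i) = 1 := by
    rw [← Finset.prod_fiberwise O lab, Finset.prod_congr rfl (fun c _ => hfib c)]
    by_contra hne
    exact hW (exists_wreath_quotient hS M hMp ν huM hne)
  have hcard : p ∣ O.card := by
    have h1 : O.card = ∑ c : S ⧸ M, (O.filter (fun i => lab i = c)).card :=
      Finset.card_eq_sum_card_fiberwise (fun i _ => Finset.mem_univ _)
    have h2 : ∀ c : S ⧸ M, (O.filter (fun i => lab i = c)).card = B.card := by
      intro c
      symm
      refine Finset.card_bij' (fun i _ => d.σ c.out i) (fun i _ => (d.σ c.out).symm i) ?_ ?_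
        (fun i _ => by simp) (fun i _ => by simp)
      · intro i hi
        simp only [hB, Finset.mem_filter] at hi ⊢
        refine ⟨(hOinv _ i).2 hi.1, ?_⟩
        rw [hlabmul _ i hi.1, hi.2, mul_one, QuotientGroup.out_eq']
      · intro i hi
        simp only [hB, Finset.mem_filter] at hi ⊢
        have hm : (d.σ c.out).symm i ∈ O := (hOinv c.out _).1 (by simpa using hi.1)
        refine ⟨hm, ?_⟩
        have h := hlabmul c.out _ hm
        rw [Equiv.apply_symm_apply, hi.2, QuotientGroup.out_eq'] at h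
        exact left_eq_mul.1 h
    rw [h1, Finset.sum_congr rfl (fun c _ => h2 c), Finset.sum_const, Finset.card_univ,
      ← Nat.card_eq_fintype_card, ← Subgroup.index_eq_card, hMp, smul_eq_mul]
    exact dvd_mul_right p _
  obtain ⟨k, hk⟩ := hcard
  rw [hone, hk, pow_mul, hexp, one_pow]

end CfsgLib.FusYoshida
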